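import Groth.Prelude.Def_StCoarse
import Groth.Prelude.Def_StGerb
import Groth.Agent.AlgStLib.OfPsh
import Groth.Agent.AlgStLib.FppfSite
import Mathlib.AlgebraicGeometry.AlgClosed.Basic

/-!
# A gerbe is bijective on geometric points
-/

set_option backward.isDefEq.respectTransparency false
set_option backward.isDefEq.respectTransparency.types false

universe u

open CategoryTheory CategoryTheory.Functor CategoryTheory.Limits AlgebraicGeometry Opposite AlgSp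

namespace Groth.Agent.GerbLib.GeomPts

open Groth.Agent.AlgStLib

variable {S : Scheme.{u}} {Ω : Type u} [Field Ω] [IsAlgClosed Ω]

/-- A covering sieve of a geometric point is everything. -/
theorem mem_id (t : Spec (CommRingCat.of Ω) ⟶ S) {R : Sieve (Over.mk t)}
    (hR : R ∈ QuotSh.J Scheme.fppfPrecoverage S (Over.mk t)) : R (𝟙 (Over.mk t)) := by
  obtain ⟨ι, V, v, hfl, hlfp, hs, hRv⟩ := exists_fppf_of_mem_J (S := S) hR
  obtain ⟨i, w, -⟩ := hs (IsLocalRing.closedPoint Ω)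
  haveI := hlfp i
  haveI : Nonempty (V i).left := ⟨w⟩
  haveI : JacobsonSpace (Over.mk t).left := inferInstanceAs (JacobsonSpace (Spec (CommRingCat.of Ω)))
  haveI : JacobsonSpace (V i).left := LocallyOfFiniteType.jacobsonSpace (v i).left
  obtain ⟨x, -, hx⟩ := nonempty_inter_closedPoints (X := (V i).left) (Z := Set.univ)
    Set.univ_nonempty isClosed_univ.isLocallyClosed
  let p := pointOfClosedPoint (v i).left x hx
  have hp : p ≫ (v i).left = 𝟙 _ := pointOfClosedPoint_comp _ _ _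
  let σ : Over.mk t ⟶ V i := Over.homMk p (by
    show p ≫ (V i).hom = t
    rw [← Over.w (v i), ← Category.assoc]
    erw [hp]
    exact Category.id_comp _)
  have : σ ≫ v i = 𝟙 _ := Over.OverMorphism.ext hp
  exact this ▸ R.downward_closed (hRv i) σ

variable {𝒳 𝒴 : AlgSt.Cat S} {M : Sp S}

theorem fibSec_eq (π : 𝒳 ⥤ᵇ AlgSt.ofSp M) {T : Over S} (x : 𝒳.p.Fiber T) :
    AlgSt.fibSec π x = M.obj.map (eqToHom x.2.symm).op (secAt π x.1) := by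
  refine Eq.trans ?_ (res_res M.obj _ _ _).symm
  exact res_congr M.obj (by simp) _

theorem fibSec_iso {π π' : 𝒳 ⥤ᵇ AlgSt.ofSp M} (e : π ≅ π') {T : Over S} (x : 𝒳.p.Fiber T) :
    AlgSt.fibSec π x = AlgSt.fibSec π' x := by
  rw [fibSec_eq, fibSec_eq, secAt_eq_of_iso e x.1]

/-- The image of an object of a fibre. -/
abbrev img (F : 𝒳 ⥤ᵇ 𝒴) {T : Over S} (x : 𝒳.p.Fiber T) : 𝒴.p.Fiber T :=
  ⟨F.obj x.1, (F.w_obj x.1).trans x.2⟩

theorem fibSec_comp (F : 𝒳 ⥤ᵇ 𝒴) (π : 𝒴 ⥤ᵇ AlgSt.ofSp M) {T : Over S} (x : 𝒳.p.Fiber T) :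
    AlgSt.fibSec (BasedFunctor.comp F π) x = AlgSt.fibSec π (img F x) :=
  rfl

theorem fibSec_congr (π : 𝒴 ⥤ᵇ AlgSt.ofSp M) {T : Over S} (a b : 𝒴.p.Fiber T) (g : a.1 ⟶ b.1)
    [𝒴.p.IsHomLift (𝟙 T) g] : AlgSt.fibSec π a = AlgSt.fibSec π b := by
  rw [fibSec_eq, fibSec_eq, ← secAt_map π g]
  refine (res_res M.obj _ _ _).trans (res_congr M.obj ?_ _)
  rw [IsHomLift.fac' 𝒴.p (𝟙 T) g]
  simp

variable {t : Spec (CommRingCat.of Ω) ⟶ S} (F : 𝒳 ⥤ᵇ 𝒴)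

/-- `T` is a geometric point. -/
def IsGeom (T : Over S) : Prop :=
  ∀ R ∈ QuotSh.J Scheme.fppfPrecoverage S T, Sieve.arrows R (𝟙 T)

theorem isGeom_mk : IsGeom (Over.mk t) := fun _ hR => mem_id t hR

variable {T : Over S}

/-- Objects over a geometric point lift along a gerbe. -/
theorem exists_img (hT : IsGeom T) (hF : Gerb.LocSurjObj (QuotSh.J Scheme.fppfPrecoverage S) F)
    (y : 𝒴.p.Fiber T) :
    ∃ (x : 𝒳.p.Fiber T) (g : (img F x).1 ⟶ y.1), 𝒴.p.IsHomLift (𝟙 T) g := by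
  obtain ⟨y, rfl⟩ := y
  obtain ⟨R, hR, h⟩ := hF y
  obtain ⟨x, g, hg⟩ := h (𝟙 (𝒴.p.obj y)) (hT R hR)
  exact ⟨⟨x, (F.w_obj x).symm.trans (IsHomLift.domain_eq 𝒴.p (𝟙 _) g)⟩, g, hg⟩

/-- Isomorphisms over a geometric point lift along a gerbe. -/
theorem exists_iso (hT : IsGeom T) (h𝒳 : FibCat.IsFibGrpd 𝒳.p)
    (hF : Gerb.LocSurjHom (QuotSh.J Scheme.fppfPrecoverage S) F) (x x' : 𝒳.p.Fiber T)
    (e : img F x ≅ img F x') : Nonempty (x ≅ x') := by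
  obtain ⟨x, rfl⟩ := x
  obtain ⟨R, hR, h⟩ := hF x x'.1 e.hom.1 e.hom.2
  obtain ⟨x₀, φ, ψ, hφ, hψ, -⟩ := h (𝟙 (𝒳.p.obj x)) (hT R hR)
  haveI := hφ
  haveI := hψ
  let z : 𝒳.p.Fiber (𝒳.p.obj x) := ⟨x₀, IsHomLift.domain_eq 𝒳.p (𝟙 (𝒳.p.obj x)) φ⟩
  haveI := h𝒳
  haveI : IsIso φ := FibBase.isIso_of_lift (hp := h𝒳) (𝟙 (𝒳.p.obj x)) φ
  haveI : IsIso ψ := FibBase.isIso_of_lift (hp := h𝒳) (𝟙 (𝒳.p.obj x)) ψ
  let i₁ : z ≅ (⟨x, rfl⟩ : 𝒳.p.Fiber (𝒳.p.obj x)) := FibBase.fiberIsoMk (asIso φ) hφ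
  let i₂ : z ≅ x' := FibBase.fiberIsoMk (asIso ψ) hψ
  exact ⟨i₁.symm ≪≫ i₂⟩

end Groth.Agent.GerbLib.GeomPts

namespace Groth.Agent.GerbLib.GeomPts

open Groth.Agent.AlgStLib

variable {S : Scheme.{u}} {𝒳 𝒴 : AlgSt.Cat S} {M : Sp S}

/-- Along a gerbe, bijectivity on geometric points is unchanged. -/
theorem geomPtBij_comp_iff (h𝒳 : FibCat.IsFibGrpd 𝒳.p) (h𝒴 : FibCat.IsFibGrpd 𝒴.p) (F : 𝒳 ⥤ᵇ 𝒴)
    (hF : Gerb.IsGerbeOver (QuotSh.J Scheme.fppfPrecoverage S) F) (π : 𝒴 ⥤ᵇ AlgSt.ofSp M) :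
    AlgSt.GeomPtBij (BasedFunctor.comp F π) ↔ AlgSt.GeomPtBij π := by
  constructor
  · intro h Ω _ _ t
    obtain ⟨h₁, h₂⟩ := h Ω t
    refine ⟨fun m => ?_, fun y y' e => ?_⟩
    · obtain ⟨x, rfl⟩ := h₁ m
      exact ⟨img F x, (fibSec_comp F π x).symm⟩
    · obtain ⟨x, g, hg⟩ := exists_img F isGeom_mk hF.1 y
      obtain ⟨x', g', hg'⟩ := exists_img F isGeom_mk hF.1 y'
      obtain ⟨i⟩ := h₂ x x' (by
        rw [fibSec_comp, fibSec_comp, fibSec_congr π (img F x) y g, fibSec_congr π (img F x') y' g']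
        exact e)
      haveI := hg
      haveI := hg'
      haveI := i.hom.2
      haveI := i.inv.2
      haveI : IsIso g := FibBase.isIso_of_lift (hp := h𝒴) (𝟙 (Over.mk t)) g
      haveI : IsIso g' := FibBase.isIso_of_lift (hp := h𝒴) (𝟙 (Over.mk t)) g'
      have hb : 𝒴.p.IsHomLift (𝟙 (Over.mk t)) (F.map i.hom.1) :=
        BasedFunctor.preserves_isHomLift F (𝟙 (Over.mk t)) i.hom.1
      haveI : IsIso (F.map i.hom.1) := FibBase.isIso_of_lift (hp := h𝒴) (𝟙 (Over.mk t)) _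
      let i₁ : img F x ≅ y := FibBase.fiberIsoMk (asIso g) hg
      let i₂ : img F x' ≅ y' := FibBase.fiberIsoMk (asIso g') hg'
      let i₃ : img F x ≅ img F x' := FibBase.fiberIsoMk (asIso (F.map i.hom.1)) hb
      exact ⟨i₁.symm ≪≫ i₃ ≪≫ i₂⟩
  · intro h Ω _ _ t
    obtain ⟨h₁, h₂⟩ := h Ω t
    refine ⟨fun m => ?_, fun x x' e => ?_⟩
    · obtain ⟨y, rfl⟩ := h₁ m
      obtain ⟨x, g, hg⟩ := exists_img F isGeom_mk hF.1 y
      exact ⟨x, (fibSec_comp F π x).trans (fibSec_congr π (img F x) y g)⟩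
    · rw [fibSec_comp, fibSec_comp] at e
      obtain ⟨i⟩ := h₂ _ _ e
      exact exists_iso F isGeom_mk h𝒳 hF.2 x x' i

end Groth.Agent.GerbLib.GeomPts
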